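import Cfsg.Agent.Lib.FT.BG11.Exceptional
import Cfsg.Agent.Lib.FT.BG12.Context
import Cfsg.Agent.Lib.FT.Sigma10

/-!
Discharge of what section 12 assumes from sections 10 and 11.
-/

set_option autoImplicit false

universe u

namespace CfsgLib.FT.BG12

/-- The upstream facts of section 12 follow from S1403, S1395, S1448 and S1453. -/
theorem up_of (h1403 : StmtS1403.{u}) (h1395 : StmtS1395.{u}) (h1448 : StmtS1448.{u})
    (h1453 : StmtS1453.{u}) : Up.{u} where
  s1403 := h1403
  s1411 := stmtS1411_of h1403 stmtS1444
  s1412 := stmtS1412_of h1403 stmtS1444 h1448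
  s1414 := stmtS1414_of h1403 stmtS1444 h1453
  s1453 := h1453
  disjoint := BG10X.sigmaDisjoint h1403
  centRank := BG10X.sigmaCentRank h1403 h1395
  exceptional := BG11.exceptional h1403 h1395 h1448 h1453
  signalizer := BG10X.maxElemSignalizer h1403 h1395
  maxStructure := BG10X.maxElemStructure h1403 h1448 h1453
  betaCentRank := BG10X.betaCentRank h1403
  betaPrimeSylow := BG10X.betaPrimeSylow h1403 h1453

end CfsgLib.FT.BG12
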