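import Cfsg.Agent.Lib.FT.BG11.Normal

/-!
The named propositions of BG sections 10-11 used in section 12, proved.
-/

set_option autoImplicit false

universe u

namespace CfsgLib.FT.BG11

open Cfsg CfsgLib.Techniques Subgroup

/-- BG section 11 under Hypothesis 11.1. -/
theorem exceptional (h1403 : StmtS1403.{u}) (h1395 : StmtS1395.{u}) (h1448 : StmtS1448.{u})
    (h1453 : StmtS1453.{u}) : BG12.Exceptional.{u} := by
  intro G _ _ hG M hM p hp' hp A A₀ hAM hA hA2 hA₀ hA₀c hN
  have h : Setup G M p A A₀ := ⟨hG, h1403, hM, hp'.out, hp, hAM, hA, hA2, hA₀, hA₀c, hN⟩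
  exact
    { nil := h.nilpotent
      disjoint := h.disjoint
      sylow := fun T hT => h.sylow h1448 h1453 hT
      cent := h.cent
      lines := h.lines h1448 h1453
      normal := h.normal h1395 h1448 h1453 }

end CfsgLib.FT.BG11
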