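import Cfsg.Agent.Lib.FT.BG10Extra.MaxElem
import Cfsg.Agent.Lib.Base.ThompsonFPF

/-!
BG section 11: the basic disjointness lemma and its consequences (11.2-11.6).
-/

set_option autoImplicit false
set_option linter.style.haveILetI false

universe u

namespace CfsgLib.FT.BG11

open Cfsg CfsgLib.OddOrder CfsgLib.Techniques Subgroup CfsgLib.FT.BG10X
open scoped Pointwise

variable {G : Type u} [Group G] [Finite G]

/-- BG Hypothesis 11.1, with what sections 9-10 give. -/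
structure Setup (G : Type u) [Group G] [Finite G] (M : Subgroup G) (p : ℕ)
    (A A₀ : Subgroup G) : Prop where
  min : IsMinSimpleOddOrder G
  h1403 : StmtS1403.{u}
  isMax : IsCoatom M
  prime : p.Prime
  notSigma : p ∉ sigma M
  le : A ≤ M
  elem : IsElementaryAbelian p A
  card : Nat.card A = p ^ 2
  line_le : A₀ ≤ A
  line_card : Nat.card A₀ = p
  norm_le : normalizer (A₀ : Set G) ≤ M

variable {M A A₀ : Subgroup G} {p : ℕ}

namespace Setup

theorem centralizer_le (h : Setup G M p A A₀) : centralizer (A : Set G) ≤ M :=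
  ((Subgroup.centralizer_le h.line_le).trans (centralizer_le_normalizer _)).trans h.norm_le

theorem maximal (h : Setup G M p A A₀) :
    ∀ B : Subgroup G, IsElementaryAbelian p B → A ≤ B → B = A :=
  haveI := Fact.mk h.prime
  elementary_maximal h.h1403 h.min h.isMax h.notSigma h.le h.elem h.card

theorem transitivity (h : Setup G M p A A₀) : TransitivityHypothesis A :=
  haveI := Fact.mk h.prime
  th_of_maximal_elementary h.h1403 h.min h.elem h.card h.maximal

theorem dvd (h : Setup G M p A A₀) : p ∣ Nat.card M :=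
  (h.card ▸ dvd_pow_self p two_ne_zero : p ∣ Nat.card A).trans (card_dvd_of_le h.le)

theorem coprime_sigmaCore (h : Setup G M p A A₀) :
    (Nat.card A).Coprime (Nat.card (sigmaCore M)) := by
  rw [h.card]
  exact ((h.prime.coprime_iff_not_dvd).2 fun hd =>
    h.notSigma (piCoreOf_primes (sigma M) M p h.prime hd)).pow_left 2

theorem comm (h : Setup G M p A A₀) : A ≤ centralizer (A : Set G) :=
  le_centralizer_self_of_comm h.elem.1

theorem not_isCyclic (h : Setup G M p A A₀) : ¬ IsCyclic A := fun hc => by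
  have h1 := card_le_of_le_cyclic h.prime.pos hc (le_rfl : A ≤ A) h.elem.2
  rw [h.card] at h1
  exact absurd h1 (not_le.2 (lt_self_pow₀ h.prime.one_lt (by norm_num)))

/-- An invariant `q`-Sylow subgroup of `cj g M` meeting a given subgroup non-trivially. -/
theorem exists_invariant (h : Setup G M p A A₀) {q : ℕ} [hq : Fact q.Prime] {g : G}
    (hAg : A ≤ cj g M) {H : Subgroup G} (hAH : A ≤ H)
    (hd : q ∣ Nat.card ↥(H ⊓ cj g (sigmaCore M))) :
    ∃ Q : Subgroup G, SylIn q Q (cj g M) ∧ SylIn q Q ⊤ ∧ A ≤ normalizer (Q : Set G) ∧ H ⊓ Q ≠ ⊥ ∧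
      normalizer (Q : Set G) ≤ cj g M := by
  obtain ⟨W, hW⟩ : ∃ W, W = cj g (sigmaCore M) := ⟨_, rfl⟩
  rw [← hW] at hd
  have hAW : A ≤ normalizer (W : Set G) := by
    rw [hW, ← cj_normalizer]
    exact hAg.trans (cj_mono (le_normalizer_sigmaCore M))
  have hcopW : (Nat.card A).Coprime (Nat.card W) := by
    rw [hW, card_cj]; exact h.coprime_sigmaCore
  have hsolv : Group.IsSolvable A :=
    minSimple_solvable h.min (ne_top_of_le_maximal h.isMax h.le)
  have hAD : A ≤ normalizer ((H ⊓ W : Subgroup G) : Set G) :=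
    CfsgLib.Coprime.le_normalizer_inf_inf (hAH.trans le_normalizer) hAW
  obtain ⟨D, hD⟩ := CfsgLib.Coprime.exists_invariant_sylow (p := q) hAD
    (hcopW.coprime_dvd_right (card_dvd_of_le inf_le_right)) (Or.inl hsolv)
  have hD1 : ((D : Subgroup ↥(H ⊓ W)).map (H ⊓ W).subtype) ≠ ⊥ :=
    sylIn_ne_bot (sylIn_sylow_map D) hd
  obtain ⟨Q, hDQ, hAQ⟩ := CfsgLib.Coprime.exists_invariant_sylow_ge hAW hcopW (Or.inl hsolv)
    ((map_subtype_le _).trans inf_le_right) (D.isPGroup'.map _) hD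
  obtain ⟨T, hTdef⟩ : ∃ T, T = (Q : Subgroup W).map W.subtype := ⟨_, rfl⟩
  have hTW : SylIn q T W := hTdef ▸ sylIn_sylow_map Q
  have hqσ : q ∈ sigma M := piCoreOf_primes (sigma M) M q hq.out
    (by have h1 := hd.trans (card_dvd_of_le inf_le_right)
        rw [hW, card_cj] at h1
        exact h1)
  have hTM : SylIn q (cj g⁻¹ T) M := by
    refine sylIn_of_hall (sigmaCore_hall h.h1403 h.min h.isMax) hqσ ?_
    have := hTW.cj' g⁻¹
    rwa [hW, cj_inv_cj] at this
  refine ⟨T, ?_, ?_, hTdef ▸ hAQ, fun e => hD1 (le_bot_iff.1 (e ▸ le_inf ?_ ?_)), ?_⟩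
  · have := hTM.cj' g
    rwa [cj_cj_inv] at this
  · have := (sigma_sylIn_top hqσ hTM).cj' g
    rwa [cj_cj_inv, cj_eq_self_of_mem (mem_top g)] at this
  · exact (map_subtype_le _).trans inf_le_left
  · exact hTdef ▸ hDQ
  · rw [← cj_cj_inv g T, ← cj_normalizer]
    exact cj_mono (sigma_normalizer_le hqσ hTM)

/-- BG 11.2: two conjugates of `M_σ` have no common prime inside a proper subgroup over `A`. -/
theorem no_common_prime (h : Setup G M p A A₀) {g : G} (hAg : A ≤ cj g M) (hg : cj g M ≠ M)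
    {q : ℕ} [hq : Fact q.Prime] {H : Subgroup G} (hH : H ≠ ⊤) (hAH : A ≤ H)
    (h1 : q ∣ Nat.card ↥(H ⊓ sigmaCore M)) (h2 : q ∣ Nat.card ↥(H ⊓ cj g (sigmaCore M))) :
    False := by
  haveI := Fact.mk h.prime
  have hqσ : q ∈ sigma M :=
    piCoreOf_primes (sigma M) M q hq.out (h1.trans (card_dvd_of_le inf_le_right))
  have hqA : ¬ q ∣ Nat.card A := fun hd => by
    rw [h.card] at hd
    exact h.notSigma ((Nat.prime_dvd_prime_iff_eq hq.out h.prime).1 (hq.out.dvd_of_dvd_pow hd) ▸ hqσ)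
  obtain ⟨Q₁, hQ₁, hQ₁t, hAQ₁, hH₁, -⟩ := h.exists_invariant (q := q) (g := 1)
    (by rw [cj_one]; exact h.le) hAH (by rw [cj_one]; exact h1)
  obtain ⟨Q₂, hQ₂, hQ₂t, hAQ₂, hH₂, hN₂⟩ := h.exists_invariant hAg hAH h2
  rw [cj_one] at hQ₁
  have hmax : ∀ Q : Subgroup G, SylIn q Q ⊤ → A ≤ normalizer (Q : Set G) →
      Q ∈ maxInvSubgroups ⊤ A {q} := fun Q hQ hAQ =>
    ⟨mem_invSubgroups_singleton_iff.2 ⟨le_top, hQ.isPGroup, hAQ⟩,
      fun R hR hle => hQ.eq_of_le (mem_invSubgroups_singleton_iff.1 hR).2.1 hle le_top⟩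
  obtain ⟨k, hk, hQk⟩ := conjBy_iff.mp (th_conjBy_of_meet h.min h.transitivity hqA
    (hmax _ hQ₁t hAQ₁) (hmax _ hQ₂t hAQ₂) hH hAH hH₁ hH₂)
  have hkM : k ∈ M := h.centralizer_le (piCoreOf_le _ _ hk)
  have hQ₂M : SylIn q Q₂ M := hQk ▸ hQ₁.cj_mem hkM
  have hne : Q₂ ≠ ⊥ := fun e => hH₂ (by rw [e, inf_bot_eq])
  obtain ⟨c, hc, he⟩ := exists_centralizer_cj_eq h.h1403 h.min h.isMax hqσ (Nat.card G) Q₂
    le_add_self hQ₂.isPGroup hne 1 g (by rw [cj_one]; exact hQ₂M.le) hQ₂.le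
  rw [cj_one, cj_eq_self_of_mem (sigma_normalizer_le hqσ hQ₂M (centralizer_le_normalizer _ hc))]
    at he
  exact hg he.symm

/-- The case `q ∣ |C(A)|`. -/
theorem not_dvd_centralizer (h : Setup G M p A A₀) {g : G} (hAg : A ≤ cj g M) (hg : cj g M ≠ M)
    {q : ℕ} [hq : Fact q.Prime] (hqσ : q ∣ Nat.card (sigmaCore M))
    (hd : q ∣ Nat.card (centralizer (A : Set G))) : False := by
  haveI := Fact.mk h.prime
  have hqσ' : q ∈ sigma M := piCoreOf_primes (sigma M) M q hq.out hqσ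
  have hqA : ¬ q ∣ Nat.card A := fun hd' => by
    rw [h.card] at hd'
    exact h.notSigma
      ((Nat.prime_dvd_prime_iff_eq hq.out h.prime).1 (hq.out.dvd_of_dvd_pow hd') ▸ hqσ')
  obtain ⟨Q₁, hQ₁, hQ₁t, hAQ₁, -, -⟩ := h.exists_invariant (q := q) (g := 1)
    (by rw [cj_one]; exact h.le) h.le
    (by rw [cj_one, inf_eq_right.2 (sigmaCore_le M)]; exact hqσ)
  obtain ⟨Q₂, hQ₂, hQ₂t, hAQ₂, hne, hN₂⟩ := h.exists_invariant (q := q) hAg hAg
    (by rw [← cj_inf, inf_eq_right.2 (sigmaCore_le M), card_cj]; exact hqσ)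
  rw [cj_one] at hQ₁
  have hmax : ∀ Q : Subgroup G, SylIn q Q ⊤ → A ≤ normalizer (Q : Set G) →
      Q ∈ maxInvSubgroups ⊤ A {q} := fun Q hQ hAQ =>
    ⟨mem_invSubgroups_singleton_iff.2 ⟨le_top, hQ.isPGroup, hAQ⟩,
      fun R hR hle => hQ.eq_of_le (mem_invSubgroups_singleton_iff.1 hR).2.1 hle le_top⟩
  obtain ⟨k, hk, hQk⟩ := conjBy_iff.mp (th_transitive_rank_two h.min h.transitivity
    (not_rankLE_one_inf h.elem h.card) hqA hd (hmax _ hQ₁t hAQ₁) (hmax _ hQ₂t hAQ₂))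
  have hkM : k ∈ M := h.centralizer_le (piCoreOf_le _ _ hk)
  have hQ₂M : SylIn q Q₂ M := hQk ▸ hQ₁.cj_mem hkM
  obtain ⟨c, hc, he⟩ := exists_centralizer_cj_eq h.h1403 h.min h.isMax hqσ' (Nat.card G) Q₂
    le_add_self hQ₂.isPGroup (fun e => hne (by rw [e, inf_bot_eq])) 1 g
    (by rw [cj_one]; exact hQ₂M.le) hQ₂.le
  rw [cj_one, cj_eq_self_of_mem (sigma_normalizer_le hqσ' hQ₂M (centralizer_le_normalizer _ hc))]
    at he
  exact hg he.symm

/-- Another conjugate of `M` over a Sylow subgroup containing `A`. -/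
theorem exists_outside (h : Setup G M p A A₀) {P : Subgroup G} (hP : SylIn p P M) :
    ∃ g ∈ normalizer (P : Set G), g ∉ M :=
  SetLike.not_le_iff_exists.1 fun hle => h.notSigma
    (haveI := Fact.mk h.prime; (mem_sigma_iff hP).2 ⟨h.dvd, hle⟩)

theorem outside_facts (h : Setup G M p A A₀) {P : Subgroup G} (hP : SylIn p P M) (hAP : A ≤ P)
    {g : G} (hg : g ∈ normalizer (P : Set G)) (hgM : g ∉ M) : A ≤ cj g M ∧ cj g M ≠ M :=
  ⟨(hAP.trans (mem_normalizer_iff_cj.1 hg).ge).trans (cj_mono hP.le),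
    fun e => hgM (mem_maximal_of_cj_eq h.min h.isMax e)⟩

theorem exists_conjugate (h : Setup G M p A A₀) : ∃ g : G, A ≤ cj g M ∧ cj g M ≠ M := by
  haveI := Fact.mk h.prime
  obtain ⟨P, hP, hAP⟩ := exists_sylIn_ge (p := p) (IsPGroup.of_card h.card) h.le
  obtain ⟨g, hg, hgM⟩ := h.exists_outside hP
  exact ⟨g, h.outside_facts hP hAP hg hgM⟩

/-- BG 11.6. -/
theorem cent (h : Setup G M p A A₀) : sigmaCore M ⊓ centralizer (A : Set G) = ⊥ := by
  by_contra hne
  obtain ⟨q, hq, hd⟩ := Nat.exists_prime_and_dvd (fun e => hne (eq_bot_of_card_eq _ e))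
  haveI := Fact.mk hq
  obtain ⟨g, hAg, hg⟩ := h.exists_conjugate
  exact h.not_dvd_centralizer hAg hg (hd.trans (card_dvd_of_le inf_le_left))
    (hd.trans (card_dvd_of_le inf_le_right))

theorem inf_conj_sigmaCore (h : Setup G M p A A₀) {g : G} (hAg : A ≤ cj g M) (hg : cj g M ≠ M) :
    M ⊓ cj g (sigmaCore M) = ⊥ := by
  by_contra hne
  obtain ⟨q, hq, hd⟩ := Nat.exists_prime_and_dvd (fun e => hne (eq_bot_of_card_eq _ e))
  haveI := Fact.mk hq
  refine h.no_common_prime (q := q) hAg hg h.isMax.1 h.le ?_ hd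
  rw [inf_eq_right.2 (sigmaCore_le M), ← card_cj g (sigmaCore M)]
  exact hd.trans (card_dvd_of_le inf_le_right)

theorem sigmaCore_inf_conj (h : Setup G M p A A₀) {g : G} (hAg : A ≤ cj g M) (hg : cj g M ≠ M) :
    sigmaCore M ⊓ cj g M = ⊥ := by
  by_contra hne
  obtain ⟨q, hq, hd⟩ := Nat.exists_prime_and_dvd (fun e => hne (eq_bot_of_card_eq _ e))
  haveI := Fact.mk hq
  refine h.no_common_prime (q := q) hAg hg (isCoatom_cj h.isMax g).1 hAg (by rwa [inf_comm]) ?_
  rw [← cj_inf, inf_eq_right.2 (sigmaCore_le M), card_cj]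
  exact hd.trans (card_dvd_of_le inf_le_left)

/-- BG 11.3. -/
theorem nilpotent (h : Setup G M p A A₀) : Group.IsNilpotent (sigmaCore M) := by
  haveI := Fact.mk h.prime
  obtain ⟨g, hAg, hg⟩ := h.exists_conjugate
  obtain ⟨W, hW⟩ : ∃ W, W = cj g (sigmaCore M) := ⟨_, rfl⟩
  have hfpf : CfsgLib.Base.IsFPF A₀ W := by
    refine ⟨(h.line_le.trans hAg).trans ?_, fun a ha ha1 => le_bot_iff.1 ?_⟩
    · rw [hW, ← cj_normalizer]; exact cj_mono (le_normalizer_sigmaCore M)
    · have hz : zpowers a = A₀ := eq_of_le_of_card_ge (zpowers_le.2 ha) (by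
        rw [Nat.card_zpowers, h.line_card]
        refine Nat.le_of_eq (orderOf_eq_prime ?_ ha1).symm
        exact h.elem.2 a (h.line_le ha))
      rw [← h.inf_conj_sigmaCore hAg hg, ← hW, ← centralizer_zpowers, hz, inf_comm]
      exact inf_le_inf_right _ ((centralizer_le_normalizer _).trans h.norm_le)
  have hn : Group.IsNilpotent W := hfpf.isNilpotent (BG13.ne_bot_of_card_prime h.line_card)
  rw [← cj_inv_cj g (sigmaCore M), ← hW]
  exact CfsgLib.Base.isNilpotent_map _ hn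

/-- BG 11.4. -/
theorem disjoint (h : Setup G M p A A₀) :
    ∀ H : Subgroup G, IsCoatom H → A ≤ H → H ≠ M → sigmaCore M ⊓ sigmaCore H = ⊥ := by
  intro H hH hAH hne
  by_cases hc : ∃ g : G, H = cj g M
  · obtain ⟨g, rfl⟩ := hc
    exact le_bot_iff.1 (h.sigmaCore_inf_conj hAH hne ▸ inf_le_inf_left _ (sigmaCore_le _))
  · exact ((sigmaDisjoint h.h1403 h.min M H h.isMax hH fun g e => hc ⟨g, e⟩).2.2 h.nilpotent).1

/-- BG 11.5: the Sylow subgroups are abelian. -/
theorem sylow_comm (h : Setup G M p A A₀) (h1448 : StmtS1448.{u}) (h1453 : StmtS1453.{u})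
    {P : Subgroup G} (hP : SylIn p P M) (hAP : A ≤ P) : IsMulCommutative P := by
  haveI := Fact.mk h.prime
  by_contra hnc
  have hncen : ¬ A ≤ centralizer (P : Set G) := by
    intro hle
    obtain ⟨T, hT, hPT⟩ := exists_sylIn_ge (p := p) hP.isPGroup (le_top : P ≤ ⊤)
    obtain ⟨S, rfl⟩ := hT.to_sylow
    have hc := centralizer_inf_sylow_comm h.h1403 h1448 h1453 h.min h.elem h.card h.maximal S
      (hAP.trans hPT)
    exact hnc (CfsgLib.Base.isMulCommutative_subgroup_iff.2 fun a ha b hb =>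
      CfsgLib.Base.isMulCommutative_subgroup_iff.1 hc a ⟨hPT ha, le_centralizer_iff.1 hle ha⟩ b
        ⟨hPT hb, le_centralizer_iff.1 hle hb⟩)
  obtain ⟨z, hzP, hz, hzc⟩ := exists_central_orderOf hP.isPGroup (sylIn_ne_bot hP h.dvd)
  have hzp : z ^ p = 1 := hz ▸ pow_orderOf_eq_one z
  have hmem : ∀ w : G, w ∈ P → w ^ p = 1 → (∀ t ∈ P, t * w = w * t) → w ∈ zpowers z := by
    intro w hw hwp hwc
    by_contra hwz
    have hwA : w ∈ A := mem_of_maximal_elementary h.elem h.maximal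
      (mem_centralizer_iff.2 fun a ha => hwc a (hAP ha)) hwp
    have hzA : z ∈ A := mem_of_maximal_elementary h.elem h.maximal
      (mem_centralizer_iff.2 fun a ha => hzc a (hAP ha)) hzp
    have hw1 : orderOf w = p := orderOf_eq_prime hwp fun e => hwz (e ▸ one_mem _)
    have hsup := line_sup h.card hzA hz (zpowers w) (zpowers_le.2 hwA)
      (by rw [Nat.card_zpowers, hw1]) fun e => hwz (e ▸ mem_zpowers w)
    refine hncen (hsup ▸ sup_le (zpowers_le.2 ?_) (zpowers_le.2 ?_))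
    · exact mem_centralizer_iff.2 fun t ht => hwc t ht
    · exact mem_centralizer_iff.2 fun t ht => hzc t ht
  have hfix : ∀ g ∈ normalizer (P : Set G), cj g (zpowers z) = zpowers z := fun g hg => by
    refine eq_of_le_of_card_ge (cj_le_iff.2 fun w hw => ?_) (card_cj g _).ge
    obtain ⟨i, rfl⟩ := mem_zpowers_iff.1 hw
    rw [← MulAut.conj_apply, map_zpow, MulAut.conj_apply]
    refine zpow_mem (hmem _ ((mem_normalizer_iff.1 hg z).1 hzP) ?_ fun t ht => ?_) i
    · rw [← MulAut.conj_apply, ← map_pow, hzp, map_one]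
    · have h1 := hzc (g⁻¹ * t * g) ((mem_normalizer_iff'' (H := P)).1 hg t |>.1 ht)
      calc t * (g * z * g⁻¹) = g * ((g⁻¹ * t * g) * z) * g⁻¹ := by group
        _ = g * (z * (g⁻¹ * t * g)) * g⁻¹ := by rw [h1]
        _ = (g * z * g⁻¹) * t := by group
  obtain ⟨g, hgN, hgM⟩ := h.exists_outside hP
  have hA₀z : A₀ ≠ zpowers z := fun e =>
    hgM (h.norm_le (mem_normalizer_iff_cj.2 (e ▸ hfix g hgN)))
  have hlines : ∀ X : Subgroup G, X ≤ A → Nat.card X = p → X ≠ zpowers z →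
      normalizer (X : Set G) ≤ M := by
    intro X hX hX1 hX2
    obtain ⟨s, hs, rfl⟩ := exists_conj_line hP.isPGroup h.elem h.card h.maximal hAP hncen hzP hz hzc
      h.line_le h.line_card hA₀z hX hX1 hX2
    rw [← cj_normalizer, ← cj_eq_self_of_mem (hP.le hs.1)]
    exact cj_mono h.norm_le
  obtain ⟨hAg, hg⟩ := h.outside_facts hP hAP hgN hgM
  obtain ⟨W, hW⟩ : ∃ W, W = cj g (sigmaCore M) := ⟨_, rfl⟩
  haveI := h.elem.1
  have hWz : W ≤ centralizer ((zpowers z : Subgroup G) : Set G) := by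
    refine CfsgLib.Coprime.le_of_centralizer_le_of_not_isCyclic h.not_isCyclic ?_ ?_
      fun a ha ha1 => ?_
    · rw [hW, ← cj_normalizer]; exact hAg.trans (cj_mono (le_normalizer_sigmaCore M))
    · rw [hW, card_cj]; exact h.coprime_sigmaCore
    · rw [← centralizer_zpowers]
      have hcard : Nat.card (zpowers a) = p := by
        rw [Nat.card_zpowers]; exact orderOf_eq_prime (h.elem.2 a ha) ha1
      by_cases he : zpowers a = zpowers z
      · exact he ▸ inf_le_right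
      · refine le_trans (le_of_eq_of_le ?_ (bot_le (a := (⊥ : Subgroup G)))) bot_le
        rw [← le_bot_iff, ← h.inf_conj_sigmaCore hAg hg, ← hW, inf_comm M W]
        exact inf_le_inf_left _ ((centralizer_le_normalizer _).trans
          (hlines _ (zpowers_le.2 ha) hcard he))
  have hMz : sigmaCore M ≤ centralizer ((zpowers z : Subgroup G) : Set G) := by
    have h1 := cj_mono (g := g⁻¹) (le_centralizer_iff.1 hWz)
    rw [hfix _ (inv_mem hgN)] at h1
    have h2 : cj g⁻¹ (centralizer (W : Set G)) ≤ centralizer (sigmaCore M : Set G) := by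
      refine cj_le_iff.2 fun x hx => mem_centralizer_iff.2 fun y hy => ?_
      have h3 := mem_centralizer_iff.1 hx (g * y * g⁻¹) (hW ▸ conj_mem_cj.2 hy)
      calc y * (g⁻¹ * x * g⁻¹⁻¹) = g⁻¹ * ((g * y * g⁻¹) * x) * g := by group
        _ = g⁻¹ * (x * (g * y * g⁻¹)) * g := by rw [h3]
        _ = g⁻¹ * x * g⁻¹⁻¹ * y := by group
    exact le_centralizer_iff.1 (h1.trans h2)
  obtain ⟨q, hq, hd⟩ := Nat.exists_prime_and_dvd
    (fun e => sigmaCore_ne_bot h.h1403 h.min h.isMax (eq_bot_of_card_eq _ e))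
  haveI := Fact.mk hq
  refine h.no_common_prime (q := q) (H := centralizer ((zpowers z : Subgroup G) : Set G)) hAg hg
    (minSimple_centralizer_ne_top h.min fun e => h.prime.ne_one (by
      rw [← hz, ← Nat.card_zpowers, e, card_bot]))
    (fun a ha => ?_) (by rwa [inf_eq_right.2 hMz])
    (by rwa [← hW, inf_eq_right.2 hWz, hW, card_cj])
  rw [centralizer_zpowers]
  exact mem_centralizer_singleton_iff.2 (hzc a (hAP ha))

/-- BG 11.5 for every Sylow subgroup, with `A = Ω₁`. -/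
theorem sylow (h : Setup G M p A A₀) (h1448 : StmtS1448.{u}) (h1453 : StmtS1453.{u})
    {T : Subgroup G} (hT : SylIn p T M) :
    IsMulCommutative T ∧ (A ≤ T → ∀ x ∈ T, x ^ p = 1 ↔ x ∈ A) := by
  haveI := Fact.mk h.prime
  obtain ⟨P, hP, hAP⟩ := exists_sylIn_ge (p := p) (IsPGroup.of_card h.card) h.le
  obtain ⟨k, -, hk⟩ := hT.exists_conj_eq hP
  have hPc := h.sylow_comm h1448 h1453 hP hAP
  have hTc : IsMulCommutative T := by
    refine CfsgLib.Base.isMulCommutative_subgroup_iff.2 ?_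
    rw [← hk]
    rintro _ ⟨a, ha, rfl⟩ _ ⟨b, hb, rfl⟩
    rw [← map_mul, ← map_mul, CfsgLib.Base.isMulCommutative_subgroup_iff.1 hPc a ha b hb]
  exact ⟨hTc, fun hAT x hx => ⟨fun hxp => mem_of_maximal_elementary h.elem h.maximal
    (mem_centralizer_iff.2 fun a ha =>
      CfsgLib.Base.isMulCommutative_subgroup_iff.1 hTc a (hAT ha) x hx) hxp, h.elem.2 x⟩⟩

/-- BG 11.7, first half: two lines act fixed-point-freely on `M_σ`. -/
theorem lines (h : Setup G M p A A₀) (h1448 : StmtS1448.{u}) (h1453 : StmtS1453.{u}) :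
    ∃ A₁ A₂ : Subgroup G, A₁ ≤ A ∧ A₂ ≤ A ∧ Nat.card A₁ = p ∧ Nat.card A₂ = p ∧ A₁ ≠ A₂ ∧
      sigmaCore M ⊓ centralizer (A₁ : Set G) = ⊥ ∧
      sigmaCore M ⊓ centralizer (A₂ : Set G) = ⊥ := by
  haveI := Fact.mk h.prime
  obtain ⟨P, hP, hAP⟩ := exists_sylIn_ge (p := p) (IsPGroup.of_card h.card) h.le
  have hΩ := (h.sylow h1448 h1453 hP).2 hAP
  obtain ⟨g, hgN, hgM⟩ := h.exists_outside hP
  have hmove : ∀ s : G, s ∈ normalizer (P : Set G) → s ∉ M →
      cj s⁻¹ A₀ ≤ A ∧ sigmaCore M ⊓ centralizer ((cj s⁻¹ A₀ : Subgroup G) : Set G) = ⊥ := by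
    intro s hs hsM
    refine ⟨cj_le_iff.2 fun a ha => ?_, le_bot_iff.1 ?_⟩
    · refine (hΩ _ ((mem_normalizer_iff.1 (inv_mem hs) a).1 (hAP (h.line_le ha)))).1 ?_
      rw [← MulAut.conj_apply, ← map_pow, h.elem.2 a (h.line_le ha), map_one]
    · obtain ⟨hAs, hs'⟩ := h.outside_facts hP hAP hs hsM
      intro x hx
      have h1 : s * x * s⁻¹ ∈ M ⊓ cj s (sigmaCore M) := by
        refine ⟨h.norm_le (centralizer_le_normalizer _ (mem_centralizer_iff.2 fun a ha => ?_)),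
          conj_mem_cj.2 hx.1⟩
        have h2 := mem_centralizer_iff.1 hx.2 (s⁻¹ * a * s)
          (by rw [SetLike.mem_coe, mem_cj, inv_inv]; simpa [mul_assoc] using ha)
        calc a * (s * x * s⁻¹) = s * ((s⁻¹ * a * s) * x) * s⁻¹ := by group
          _ = s * (x * (s⁻¹ * a * s)) * s⁻¹ := by rw [h2]
          _ = (s * x * s⁻¹) * a := by group
      rw [h.inf_conj_sigmaCore hAs hs', mem_bot] at h1
      exact mem_bot.2 (conj_eq_one_iff.1 h1)
  obtain ⟨hB₁, hC₁⟩ := hmove g hgN hgM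
  obtain ⟨hB₂, hC₂⟩ := hmove g⁻¹ (inv_mem hgN) fun e => hgM (by simpa using inv_mem e)
  refine ⟨_, _, hB₁, hB₂, by rw [card_cj, h.line_card], by rw [card_cj, h.line_card], fun e => ?_,
    hC₁, hC₂⟩
  have h2 : g ^ 2 ∈ normalizer (A₀ : Set G) := by
    rw [mem_normalizer_iff_cj, sq, cj_mul]
    rw [inv_inv] at e
    rw [← e, cj_cj_inv]
  obtain ⟨m, hm⟩ := exists_pow_eq_self_of_coprime (x := g) (n := 2)
    (Nat.coprime_comm.1 (Nat.coprime_two_right.2 (h.min.1.of_dvd_nat (orderOf_dvd_natCard g))))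
  have h3 := pow_mem h2 m
  rw [hm] at h3
  exact hgM (h.norm_le h3)

end Setup

end CfsgLib.FT.BG11
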