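import Cfsg.Agent.Lib.FT.BG11.Meet
import Cfsg.Agent.Lib.FT.BG13.FixedPointPrime
import Cfsg.Agent.Lib.OddOrder.NarrowAction
import Cfsg.Agent.Lib.Coprime.Action2

/-!
BG 11.7, second half: `M_σ A` is normal in `M`.
-/

set_option autoImplicit false
set_option linter.style.haveILetI false

universe u

namespace CfsgLib.FT.BG11

open Cfsg CfsgLib.OddOrder CfsgLib.Techniques Subgroup CfsgLib.FT.BG10X
open scoped Pointwise commutatorElement

variable {G : Type u} [Group G] [Finite G]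

/-- A subgroup containing a Sylow subgroup of `K` for every prime contains `K`. -/
theorem le_of_sylIn {K L : Subgroup G}
    (h : ∀ (r : ℕ) [Fact r.Prime], r ∣ Nat.card K → ∃ T, SylIn r T K ∧ T ≤ L) : K ≤ L := by
  refine relIndex_eq_one.1 (by_contra fun hne => ?_)
  obtain ⟨r, hr, hd⟩ := Nat.exists_prime_and_dvd hne
  haveI := Fact.mk hr
  obtain ⟨T, hT, hTL⟩ := h r (hd.trans (relIndex_dvd_card L K))
  exact hT.not_dvd (hd.trans (relIndex_dvd_of_le_left K hTL))

/-- An element of `N(T)'` acts on an elementary abelian `B` of order `q²` as a `q`-element. -/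
theorem exists_pow_mem_centralizer_derived {q : ℕ} [hq : Fact q.Prime] (hq2 : q ≠ 2)
    {N B : Subgroup G} (hNs : Group.IsSolvable N) (hodd : Odd (Nat.card N))
    (hB : IsElementaryAbelian q B) (hB2 : Nat.card B = q ^ 2) (hNB : N ≤ normalizer (B : Set G))
    {c : G} (hc : c ∈ ⁅N, N⁆) : ∃ k : ℕ, c ^ q ^ k ∈ centralizer (B : Set G) := by
  haveI := hNs
  obtain ⟨y, hy, rfl⟩ : c ∈ (commutator N).map N.subtype := by rwa [map_subtype_commutator]
  exact exists_pow_mem_centralizer_of_narrow hq2 (IsPGroup.of_card hB2) (bot_le : ⊥ ≤ B)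
    (CfsgLib.Base.isElementaryAbelian_bot q)
    (CfsgLib.Base.pRankLE_of_card_le (hB2 ▸ card_le_of_le inf_le_left)) hNB hodd ⟨y, hy⟩

/-- Prime-to-`q` automorphisms of a group of order `q`. -/
theorem lt_of_moves {p q : ℕ} [hp : Fact p.Prime] [hq : Fact q.Prime] (hpq : p ≠ q) {X : Subgroup G}
    (hX : Nat.card X = q) {a : G} (ha : a ^ p = 1) (hn : a ∈ normalizer (X : Set G))
    (hc : a ∉ centralizer (X : Set G)) : p < q := by
  by_contra hle
  haveI : IsCyclic X := isCyclic_of_prime_card hX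
  have h1 : (X.normalizerMonoidHom ⟨a, hn⟩) ^ p = 1 := by
    rw [← map_pow]
    have : (⟨a, hn⟩ : normalizer (X : Set G)) ^ p = 1 := Subtype.ext ha
    rw [this, map_one]
  have h2 : (X.normalizerMonoidHom ⟨a, hn⟩) ^ (q - 1) = 1 := by
    rw [← Nat.totient_prime hq.out, ← hX, ← IsCyclic.card_mulAut]
    exact pow_card_eq_one'
  have hcop : p.Coprime (q - 1) := (hp.out.coprime_iff_not_dvd).2 fun hd => by
    have := hq.out.two_le
    have := Nat.le_of_dvd (by omega) hd
    omega
  have h3 : X.normalizerMonoidHom ⟨a, hn⟩ = 1 := orderOf_eq_one_iff.1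
    (Nat.eq_one_of_dvd_coprimes hcop (orderOf_dvd_of_pow_eq_one h1) (orderOf_dvd_of_pow_eq_one h2))
  refine hc (mem_centralizer_iff.2 fun x hx => ?_)
  have h4 : a * x * a⁻¹ = x := congrArg Subtype.val (DFunLike.congr_fun h3 (⟨x, hx⟩ : X))
  exact (mul_inv_eq_iff_eq_mul.1 h4).symm

variable {M A A₀ : Subgroup G} {p : ℕ}

namespace Setup

/-- A line acting fixed-point-freely on `M_σ` moves a `σ'`-group only inside `C(M_σ)`. -/
theorem commutator_le_centralizer (h : Setup G M p A A₀) {L : Subgroup G} (hL : Nat.card L = p)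
    (hLA : L ≤ A) (hfix : sigmaCore M ⊓ centralizer (L : Set G) = ⊥) {q : ℕ} [hq : Fact q.Prime]
    (hqp : q ≠ p) (hqσ : q ∉ sigma M) {T : Subgroup G} (hT : IsPGroup q T) (hTM : T ≤ M)
    (hLT : L ≤ normalizer (T : Set G)) : ⁅T, L⁆ ≤ centralizer (sigmaCore M : Set G) := by
  rw [le_centralizer_iff]
  refine le_of_sylIn fun r hr hd => ?_
  obtain ⟨V, hV⟩ := exists_sylIn (p := r) (sigmaCore M)
  refine ⟨V, hV, le_centralizer_iff.1 ?_⟩
  have hrσ : r ∈ sigma M := piCoreOf_primes (sigma M) M r hr.out hd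
  have hMV : M ≤ normalizer (V : Set G) :=
    (le_normalizer_sigmaCore M).trans (normalizer_le_of_nilpotent h.nilpotent hV)
  exact BG13.FixedPointPrime.commutator_le_centralizer_of_fpf hr.out h.prime hL hV.isPGroup
    (fun e => h.notSigma (e ▸ hrσ)) ((hLA.trans h.le).trans hMV) (hTM.trans hMV) hLT
    (haveI := hT.isNilpotent; inferInstance) ((h.min.1).of_dvd_nat T.card_subgroup_dvd_card)
    (fun hd' => hqp (BG13.eq_of_dvd_card_pGroup hT h.prime hd').symm)
    (fun hd' => hqσ (BG13.eq_of_dvd_card_pGroup hT hr.out hd' ▸ hrσ))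
    (le_bot_iff.1 (hfix ▸ inf_le_inf_right _ hV.le))

theorem centralizer_derived_nilpotent (h : Setup G M p A A₀) :
    Group.IsNilpotent ↥(⁅M, M⁆ ⊓ centralizer (sigmaCore M : Set G)) := by
  haveI := maximal_solvable h.min h.isMax
  set C := ⁅M, M⁆ ⊓ centralizer (sigmaCore M : Set G) with hC
  have hle : C ≤ M := inf_le_left.trans (commutator_le_self M)
  set f := (QuotientGroup.mk' (piCore (alpha M) M)).comp (inclusion hle) with hf
  have hker : f.rangeRestrict.ker ≤ center C := by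
    rw [MonoidHom.ker_rangeRestrict]
    intro x hx
    have h1 : inclusion hle x ∈ piCore (alpha M) M := (QuotientGroup.eq_one_iff _).1 hx
    have h2 : (x : G) ∈ sigmaCore M :=
      alphaCore_le_sigmaCore h.h1403 h.min h.isMax ⟨_, h1, rfl⟩
    exact mem_center_iff.2 fun y => Subtype.ext ((mem_centralizer_iff.1 y.2.2 x h2).symm)
  have hn := isNilpotent_derived_quotient (K := M) (maximal_odd h.min M) (α := alpha M)
    fun r hr hr' => ⟨hr, hr'⟩
  have hrange : f.range ≤ (commutator M).map (QuotientGroup.mk' (piCore (alpha M) M)) := by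
    rintro _ ⟨x, rfl⟩
    refine ⟨inclusion hle x, ?_, rfl⟩
    have hx : (x : G) ∈ (commutator M).map M.subtype := by
      rw [map_subtype_commutator]; exact x.2.1
    obtain ⟨y, hy, hyx⟩ := hx
    obtain rfl : y = inclusion hle x := Subtype.ext hyx
    exact hy
  haveI := hn
  haveI : Group.IsNilpotent f.range := Group.nilpotent_of_mulEquiv (subgroupOfEquivOfLe hrange)
  exact Subgroup.isNilpotent_of_ker_le_center f.rangeRestrict hker

theorem isCyclic_centralizing (h : Setup G M p A A₀) (h1395 : StmtS1395.{u}) {q : ℕ}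
    [hq : Fact q.Prime] (hqσ : q ∉ sigma M) {X : Subgroup G} (hX : IsPGroup q X) (hXM : X ≤ M)
    (hXc : X ≤ centralizer (sigmaCore M : Set G)) : IsCyclic X := by
  rcases eq_or_ne X ⊥ with rfl | hne
  · infer_instance
  refine isCyclic_of_pRankLE_one (minSimple_ne_two h.min
    ((BG13.dvd_of_pGroup_ne_bot hX hne).trans X.card_subgroup_dvd_card)) hX (by_contra fun h1 => ?_)
  obtain ⟨E, hEX, hE, hE2⟩ := CfsgLib.FT.exists_elementary_sq h1
  exact sigmaCentRank h.h1403 h1395 h.min M h.isMax q hqσ E (hEX.trans hXM) hE hE2 (hEX.trans hXc)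

/-- The heart of BG 11.7: `A` centralises its invariant `σ'`-subgroups. -/
theorem le_centralizer_invariant (h : Setup G M p A A₀) (h1395 : StmtS1395.{u})
    (h1448 : StmtS1448.{u}) (h1453 : StmtS1453.{u}) {q : ℕ} [hq : Fact q.Prime] (hqp : q ≠ p)
    (hqσ : q ∉ sigma M) {T : Subgroup G} (hTq : IsPGroup q T) (hTM : T ≤ M)
    (hAT : A ≤ normalizer (T : Set G)) (hsyl : p < q → SylIn q T M) :
    T ≤ centralizer (A : Set G) := by
  haveI hp := Fact.mk h.prime
  obtain ⟨A₁, A₂, h₁, h₂, c₁, c₂, h12, f₁, f₂⟩ := h.lines h1448 h1453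
  have hA12 : A₁ ⊔ A₂ = A := by
    refine eq_of_le_of_card_ge (sup_le h₁ h₂) ?_
    obtain ⟨n, hn⟩ := IsPGroup.iff_card.1 ((IsPGroup.of_card h.card).to_le (sup_le h₁ h₂))
    have hlt : A₁ < A₁ ⊔ A₂ := lt_of_le_of_ne le_sup_left fun e =>
      h12 (eq_of_le_of_card_ge (e ▸ le_sup_right : A₂ ≤ A₁) (by rw [c₁, c₂])).symm
    have := card_lt_of_lt hlt
    rw [c₁, hn] at this
    rw [h.card, hn]
    exact Nat.pow_le_pow_right h.prime.pos
      ((Nat.pow_lt_pow_iff_right h.prime.one_lt).1 (by rwa [pow_one]))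
  by_contra hnot
  obtain ⟨L, hLA, hL, hfix, hR1⟩ : ∃ L : Subgroup G, L ≤ A ∧ Nat.card L = p ∧
      sigmaCore M ⊓ centralizer (L : Set G) = ⊥ ∧ ⁅T, L⁆ ≠ ⊥ := by
    by_contra hcon
    push Not at hcon
    refine hnot (le_centralizer_iff.1 (hA12 ▸ sup_le ?_ ?_))
    · exact le_centralizer_iff.1 (commutator_eq_bot_iff_le_centralizer.1 (hcon A₁ h₁ c₁ f₁))
    · exact le_centralizer_iff.1 (commutator_eq_bot_iff_le_centralizer.1 (hcon A₂ h₂ c₂ f₂))
  -- the cyclic group `[T, L]` and its subgroup of order `q`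
  obtain ⟨R, hR⟩ : ∃ R, R = ⁅T, L⁆ := ⟨_, rfl⟩
  rw [← hR] at hR1
  have hLT : L ≤ normalizer (T : Set G) := hLA.trans hAT
  have hRT : R ≤ T := hR ▸ CfsgLib.Coprime.commutator_le_of_le_normalizer hLT
  have hRC : R ≤ ⁅M, M⁆ ⊓ centralizer (sigmaCore M : Set G) := hR ▸ le_inf
    (commutator_mono hTM (hLA.trans h.le))
    (h.commutator_le_centralizer hL hLA hfix hqp hqσ hTq hTM hLT)
  have hLp : IsPGroup p L := BG13.isPGroup_of_card_prime hL
  have hcop : (Nat.card L).Coprime (Nat.card T) := BG13.coprime_of_pGroups hLp hTq (Ne.symm hqp)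
  have hLs : Group.IsSolvable L := haveI := hLp.isNilpotent; inferInstance
  have hRR : ⁅R, L⁆ = R := hR ▸ CfsgLib.Coprime.commutator_commutator_eq hLT hcop (Or.inl hLs)
  obtain ⟨D, hD, hRD⟩ := exists_sylIn_ge (p := q) (hTq.to_le hRT) hRC
  have hDM : D ≤ M := hD.le.trans (inf_le_left.trans (commutator_le_self M))
  have hDc : IsCyclic D :=
    h.isCyclic_centralizing h1395 hqσ hD.isPGroup hDM (hD.le.trans inf_le_right)
  have hMD : M ≤ normalizer (D : Set G) := by
    refine le_trans ?_ (normalizer_le_of_nilpotent h.centralizer_derived_nilpotent hD)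
    refine CfsgLib.Coprime.le_normalizer_inf_inf (fun g hg => ?_) (CfsgLib.Coprime.le_normalizer_centralizer
      (le_normalizer_sigmaCore M))
    rw [mem_normalizer_iff_cj, cj_commutator, cj_eq_self_of_mem hg]
  have hLR : L ≤ normalizer (R : Set G) := by
    intro l hl
    rw [mem_normalizer_iff_cj, hR, cj_commutator, cj_eq_self_of_mem hl,
      mem_normalizer_iff_cj.1 (hLT hl)]
  haveI : IsCyclic R := Subgroup.isCyclic_of_le hRD
  haveI : IsMulCommutative R := inferInstance
  have hfixR : R ⊓ centralizer (L : Set G) = ⊥ := by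
    have h1 := CfsgLib.Coprime.centralizer_inf_commutator_eq_bot hLR
      (hcop.coprime_dvd_right (card_dvd_of_le hRT))
    rwa [hRR, inf_eq_left.2 inf_le_left] at h1
  obtain ⟨R₀, hR₀R, hR₀⟩ : ∃ R₀ : Subgroup G, R₀ ≤ R ∧ Nat.card R₀ = q := by
    obtain ⟨x, hx⟩ := exists_prime_orderOf_dvd_card' (G := R) q
      (BG13.dvd_of_pGroup_ne_bot (hTq.to_le hRT) hR1)
    exact ⟨zpowers (x : G), zpowers_le.2 x.2, by rw [Nat.card_zpowers, orderOf_coe, hx]⟩
  have hR₀ne : R₀ ≠ ⊥ := BG13.ne_bot_of_card_prime hR₀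
  have hR₀L : R₀ ⊓ centralizer (L : Set G) = ⊥ :=
    le_bot_iff.1 (hfixR ▸ inf_le_inf_right _ hR₀R)
  have hMR₀ : M ≤ normalizer (R₀ : Set G) :=
    BG13.le_normalizer_of_isCyclic hDc (hR₀R.trans hRD) hMD
  have hR₀M : R₀ ≤ M := (hR₀R.trans hRT).trans hTM
  have hNR₀ : normalizer (R₀ : Set G) = M :=
    normalizer_eq_maximal h.min h.isMax hR₀M hR₀ne hMR₀
  -- `p < q`
  obtain ⟨a, haL, haR⟩ : ∃ a ∈ L, a ∉ centralizer (R₀ : Set G) :=
    SetLike.not_le_iff_exists.1 fun hle => hR₀ne (hR₀L ▸ (inf_eq_left.2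
      (le_centralizer_iff.1 hle)).symm)
  have hap : a ^ p = 1 := h.elem.2 a (hLA haL)
  have hpq : p < q :=
    lt_of_moves (Ne.symm hqp) hR₀ hap (hMR₀ ((hLA.trans h.le) haL)) haR
  have hTS := hsyl hpq
  have hq2 : q ≠ 2 := fun e => by have := h.prime.two_le; omega
  -- the elementary group of order `q²`
  obtain ⟨B, hSB, hBT⟩ : ∃ B : Subgroup G, Setup G M q B R₀ ∧ B ≤ T := by
    obtain ⟨-, -, B, hBe, hB2, hR₀B⟩ := of_normalizer_order_prime h.h1403 h.min h.isMax hqσ hR₀
      hNR₀.le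
    have hBM : B ≤ M := ((le_centralizer_self_of_comm hBe.1).trans
      ((Subgroup.centralizer_le hR₀B).trans (centralizer_le_normalizer _))).trans hNR₀.le
    obtain ⟨k, hk, hkT⟩ := hTS.exists_conj (IsPGroup.of_card hB2) hBM
    refine ⟨cj k B, ⟨h.min, h.h1403, h.isMax, hq.out, hqσ,
      (cj_mono hBM).trans (cj_eq_self_of_mem hk).le, CfsgLib.Base.isElementaryAbelian_map _ hBe,
      by rw [card_cj, hB2], ?_, hR₀, hNR₀.le⟩, hkT⟩
    rw [← mem_normalizer_iff_cj.1 (hMR₀ hk)]
    exact cj_mono hR₀B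
  obtain ⟨hTc, hΩ'⟩ := hSB.sylow h1448 h1453 hTS
  have hΩ := hΩ' hBT
  have hTT := le_centralizer_self_of_comm hTc
  -- `q` does not divide `|C(A)|`
  have hqC : ¬ q ∣ Nat.card (centralizer (A : Set G)) := by
    intro hd
    obtain ⟨Q, hQ, hTQ⟩ := exists_maxInvSubgroups_ge (H := ⊤) (A := A) (π := {q}) (Y := T)
      (mem_invSubgroups_singleton_iff.2 ⟨le_top, hTq, hAT⟩)
    obtain ⟨P', hAP', -, -, hnar⟩ := maxElemSignalizer h.h1403 h1395 h.min p q (Ne.symm hqp) A
      h.elem h.card h.maximal hd Q hQ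
    have hn : IsNarrow q Q := by
      refine isNarrow_of_maximal_elementary h1453 hq2 (mem_invSubgroups_singleton_iff.1 hQ.1).2.1
        (E := B.subgroupOf Q) (CfsgLib.Base.isElementaryAbelian_subgroupOf hSB.elem Q)
        (by rw [CfsgLib.Base.card_subgroupOf (hBT.trans hTQ), hSB.card]) fun E hE hle => ?_
      have h1 := hSB.maximal (E.map Q.subtype) (CfsgLib.Base.isElementaryAbelian_map _ hE)
        ((map_subgroupOf_eq_of_le (hBT.trans hTQ)).ge.trans (map_mono hle))
      rw [← h1]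
      exact (comap_map_eq_self_of_injective Q.subtype_injective E).symm
    exact hnot (hTQ.trans (le_centralizer_iff.1 (hAP'.trans (hnar hn))))
  -- a line normalised by a fixed-point-free line of `A` is centralised by it
  have hline : ∀ L' : Subgroup G, L' ≤ A → Nat.card L' = p →
      sigmaCore M ⊓ centralizer (L' : Set G) = ⊥ → ∀ Z : Subgroup G, Z ≤ B → Nat.card Z = q →
      Z ≠ R₀ → L' ≤ normalizer (Z : Set G) → Z ≤ centralizer (L' : Set G) := by
    intro L' hL' hL'c hfix' Z hZB hZ hZR hLZ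
    by_contra hne
    have hZM : Z ≤ M := hZB.trans hSB.le
    have hZq := BG13.isPGroup_of_card_prime hZ
    have h1 := h.commutator_le_centralizer hL'c hL' hfix' hqp hqσ hZq hZM hLZ
    have h2 : ⁅Z, L'⁆ = Z := by
      refine eq_of_le_of_card_ge (CfsgLib.Coprime.commutator_le_of_le_normalizer hLZ) ?_
      rw [hZ]
      exact Nat.le_of_dvd Nat.card_pos (BG13.dvd_of_pGroup_ne_bot
        (hZq.to_le (CfsgLib.Coprime.commutator_le_of_le_normalizer hLZ))
        fun e => hne (commutator_eq_bot_iff_le_centralizer.1 e))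
    rw [h2] at h1
    obtain ⟨z, hz⟩ := exists_prime_orderOf_dvd_card' (G := Z) q (by rw [hZ])
    have hzo : orderOf (z : G) = q := by rw [orderOf_coe, hz]
    have hzZ : zpowers (z : G) = Z :=
      eq_of_le_of_card_ge (zpowers_le.2 z.2) (by rw [Nat.card_zpowers, hzo, hZ])
    have hsup := line_sup hSB.card (hZB z.2) hzo R₀ hSB.line_le hR₀
      (fun e => hZR (hzZ.symm.trans e.symm))
    refine sigmaCentRank h.h1403 h1395 h.min M h.isMax q hqσ B hSB.le hSB.elem hSB.card ?_
    rw [← hsup, hzZ]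
    exact sup_le ((hR₀R.trans hRC).trans inf_le_right) h1
  have hNT1 : normalizer (T : Set G) ≠ ⊤ :=
    minSimple_normalizer_ne_top h.min (fun e => hR1 (le_bot_iff.1 (e ▸ hRT)))
      (FT.isPGroup_ne_top h.min hTq)
  have hNB : normalizer (T : Set G) ≤ normalizer (B : Set G) := by
    intro g hg
    refine mem_normalizer_iff_cj.2 (eq_of_le_of_card_ge (cj_le_iff.2 fun b hb => ?_) (card_cj g B).ge)
    refine (hΩ _ ((mem_normalizer_iff.1 hg b).1 (hBT hb))).1 ?_
    rw [← MulAut.conj_apply, ← map_pow, hSB.elem.2 b hb, map_one]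
  by_cases hTtop : SylIn q T ⊤
  · -- `T` is a Sylow subgroup of `G`
    obtain ⟨g, hgN, hgM⟩ := hSB.exists_outside hTS
    have hc : g⁻¹ * a * g * a⁻¹ ∈ centralizer (B : Set G) := by
      obtain ⟨c, hcdef⟩ : ∃ c, c = g⁻¹ * a * g * a⁻¹ := ⟨_, rfl⟩
      rw [← hcdef]
      have hcN : c ∈ ⁅normalizer (T : Set G), normalizer (T : Set G)⁆ := by
        rw [hcdef]
        have : ⁅g⁻¹, a⁆ ∈ ⁅normalizer (T : Set G), normalizer (T : Set G)⁆ :=
          commutator_mem_commutator (inv_mem hgN) (hLT haL)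
        rwa [commutatorElement_def, inv_inv] at this
      obtain ⟨k, hk⟩ := exists_pow_mem_centralizer_derived hq2 (minSimple_solvable h.min hNT1)
        (h.min.1.of_dvd_nat (card_subgroup_dvd_card _)) hSB.elem hSB.card hNB hcN
      obtain ⟨i, m, hm, hcm⟩ :=
        Nat.exists_eq_pow_mul_and_not_dvd (orderOf_pos c).ne' q hq.out.ne_one
      have hm0 : m ≠ 0 := fun e => hm (e ▸ dvd_zero q)
      have hcmB : c ^ m ∈ centralizer (B : Set G) := by
        have hcN' : c ∈ normalizer (T : Set G) := commutator_le_self _ hcN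
        have hp' : IsPGroup q (zpowers (c ^ m)) := IsPGroup.of_card (n := i) (by
          rw [Nat.card_zpowers, orderOf_pow_of_dvd hm0 (hcm ▸ dvd_mul_left _ _), hcm,
            Nat.mul_div_cancel _ (Nat.pos_of_ne_zero hm0)])
        obtain ⟨j, hj, hjle⟩ := (hTtop.mono le_normalizer le_top).exists_conj hp'
          (zpowers_le.2 (pow_mem hcN' m))
        rw [← mem_normalizer_iff_cj.1 hj] at hjle
        have hcT : c ^ m ∈ T := by
          have := hjle (conj_mem_cj.2 (mem_zpowers (c ^ m)))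
          exact conj_mem_cj.1 this
        exact Subgroup.centralizer_le hBT (hTT hcT)
      have hcop : Int.gcd (m : ℤ) ((q ^ k : ℕ) : ℤ) = 1 := by
        rw [Int.gcd_natCast_natCast]
        exact Nat.Coprime.pow_right k (((hq.out.coprime_iff_not_dvd).2 hm).symm)
      obtain ⟨u, v, huv⟩ := Int.gcd_dvd_iff.1
        (show Int.gcd (m : ℤ) ((q ^ k : ℕ) : ℤ) ∣ 1 by rw [hcop])
      have : c = (c ^ m) ^ u * (c ^ q ^ k) ^ v := by
        rw [← zpow_natCast c m, ← zpow_natCast c (q ^ k), ← zpow_mul, ← zpow_mul, ← zpow_add]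
        conv_lhs => rw [← zpow_one c]
        congr 1
      rw [this]
      exact mul_mem (zpow_mem hcmB u) (zpow_mem hk v)
    have hR₀B : R₀ ≤ B := hSB.line_le
    obtain ⟨R₁, hR₁⟩ : ∃ R₁, R₁ = cj g R₀ := ⟨_, rfl⟩
    have hR₁B : R₁ ≤ B := hR₁ ▸ (cj_mono hR₀B).trans (mem_normalizer_iff_cj.1 (hNB hgN)).le
    have hR₁ne : R₁ ≠ R₀ := fun e =>
      hgM (hNR₀.le (mem_normalizer_iff_cj.2 (hR₁.symm.trans e)))
    have hact : ∀ r ∈ R₀, a * (g * r * g⁻¹) * a⁻¹ = g * (a * r * a⁻¹) * g⁻¹ := by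
      intro r hr
      have hb : a * r * a⁻¹ ∈ B :=
        hR₀B ((mem_normalizer_iff.1 (hMR₀ ((hLA.trans h.le) haL)) r).1 hr)
      have h1 := mem_centralizer_iff.1 hc (a * r * a⁻¹) hb
      calc a * (g * r * g⁻¹) * a⁻¹
          = g * ((g⁻¹ * a * g * a⁻¹) * (a * r * a⁻¹) * (g⁻¹ * a * g * a⁻¹)⁻¹) * g⁻¹ := by group
        _ = g * (a * r * a⁻¹) * g⁻¹ := by rw [← h1]; group
    have hLzp : zpowers a = L := eq_of_le_of_card_ge (zpowers_le.2 haL) (by
      rw [hL, Nat.card_zpowers, orderOf_eq_prime hap fun e => haR (e ▸ one_mem _)])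
    have hLR₁ : L ≤ normalizer (R₁ : Set G) := by
      rw [← hLzp, zpowers_le]
      refine mem_normalizer_iff_cj.2 (eq_of_le_of_card_ge (cj_le_iff.2 fun y hy => ?_) (card_cj a _).ge)
      rw [hR₁] at hy ⊢
      obtain ⟨r, hr, rfl⟩ := hy
      show a * (g * r * g⁻¹) * a⁻¹ ∈ _
      rw [hact r hr]
      exact conj_mem_cj.2 ((mem_normalizer_iff.1 (hMR₀ ((hLA.trans h.le) haL)) r).1 hr)
    have h2 := hline L hLA hL hfix R₁ hR₁B (by rw [hR₁, card_cj, hR₀]) hR₁ne hLR₁
    refine haR (mem_centralizer_iff.2 fun r hr => ?_)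
    have h3 := mem_centralizer_iff.1 (h2 (hR₁ ▸ conj_mem_cj.2 hr : g * r * g⁻¹ ∈ R₁)) a haL
    have h4 := hact r hr
    rw [h3, mul_inv_cancel_right] at h4
    have h5 : r = a * r * a⁻¹ := mul_left_cancel (mul_right_cancel h4)
    conv_lhs => rw [h5]
    group
  · -- a larger `q`-group normalising `T`
    obtain ⟨S, hS, hTS'⟩ := exists_sylIn_ge (p := q) hTq (le_normalizer (H := T))
    have hlt : T < S := lt_of_le_of_ne hTS' fun e => by
      obtain ⟨S', hS', hTS''⟩ := exists_sylIn_ge (p := q) hTq (le_top : T ≤ ⊤)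
      have hlt' := lt_inf_normalizer' hS'.isPGroup (lt_of_le_of_ne hTS'' fun e' => hTtop (e' ▸ hS'))
      exact hlt'.ne' (hS.eq_of_le (hS'.isPGroup.to_le inf_le_left)
        (e ▸ hlt'.le) inf_le_right |>.trans e.symm)
    obtain ⟨s, hsS, hsT⟩ := SetLike.exists_of_lt hlt
    have hsM : s ∉ M := fun hs => hsT ((hTS.eq_of_le (hS.isPGroup.to_le inf_le_left)
      (le_inf hTS' hTM) inf_le_right).le ⟨hsS, hs⟩)
    obtain ⟨z, hzS, hz, hzc⟩ := exists_central_orderOf hS.isPGroup
      (fun e => hsT (by rw [e, mem_bot] at hsS; rw [hsS]; exact one_mem T))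
    have hzp : z ^ q = 1 := hz ▸ pow_orderOf_eq_one z
    have hzB : z ∈ B := mem_of_maximal_elementary hSB.elem hSB.maximal
      (mem_centralizer_iff.2 fun b hb => hzc b (hTS' (hBT hb))) hzp
    obtain ⟨Z, hZ⟩ : ∃ Z, Z = zpowers z := ⟨_, rfl⟩
    have hZc : Nat.card Z = q := by rw [hZ, Nat.card_zpowers, hz]
    have hzs : s ∈ centralizer (Z : Set G) := by
      rw [hZ, centralizer_zpowers]; exact mem_centralizer_singleton_iff.2 (hzc s hsS)
    have hZR : Z ≠ R₀ := fun e =>
      hsM (hNR₀.le (e ▸ centralizer_le_normalizer _ hzs))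
    have hZN : normalizer (T : Set G) ≤ normalizer (Z : Set G) := by
      have hq1 : PLengthLE q 1 ↥(normalizer (T : Set G)) :=
        pLengthLE_one_of_ne_top h.h1403 stmtS1444 h.min hNT1
      obtain ⟨P₀, hP₀⟩ := exists_sylow_of_sylIn hS
      intro g hg
      obtain ⟨o, ho, n, hn, hgon⟩ :=
        exists_eq_mul_of_index_coprime (pLengthLE_one_iff.1 hq1) P₀ ⟨g, hg⟩
      have ho' : (o : G) ∈ centralizer (T : Set G) := by
        haveI : (T.subgroupOf (normalizer (T : Set G))).Normal :=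
          normal_subgroupOf_of_le_normalizer le_rfl
        obtain ⟨k, hk⟩ : ∃ k, Nat.card (T.subgroupOf (normalizer (T : Set G))) = q ^ k := by
          rw [CfsgLib.Base.card_subgroupOf le_normalizer]
          exact IsPGroup.iff_card.1 hTq
        have hd : pPrimeCore q ↥(normalizer (T : Set G)) ⊓
            T.subgroupOf (normalizer (T : Set G)) = ⊥ := CfsgLib.Base.inf_eq_bot_of_coprime
          (by rw [hk]; exact (CfsgLib.Base.pPrimeCore_coprime q _).pow_right k)
        have h1 := CfsgLib.Base.le_centralizer_of_normal_disjoint hd ho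
        refine mem_centralizer_iff.2 fun x hx => ?_
        exact congrArg Subtype.val
          (mem_centralizer_iff.1 h1 ⟨x, le_normalizer hx⟩ (mem_subgroupOf.2 hx))
      have hnS : (n : G) ∈ normalizer (S : Set G) := by
        rw [← hP₀]
        exact mem_normalizer_iff_cj.2 (by
          have h3 := mem_normalizer_iff_cj.1 hn
          conv_rhs => rw [← h3]
          rw [cj, cj, Subgroup.map_map, Subgroup.map_map]
          rfl)
      have hnZ : (n : G) ∈ normalizer (Z : Set G) := by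
        obtain ⟨w, hw⟩ : ∃ w, w = (n : G) * z * (n : G)⁻¹ := ⟨_, rfl⟩
        have hwS : w ∈ S := hw ▸ (mem_normalizer_iff.1 hnS z).1 hzS
        have hwq : w ^ q = 1 := by
          rw [hw, ← MulAut.conj_apply, ← map_pow, hzp, map_one]
        have hwc : ∀ t ∈ S, t * w = w * t := fun t ht => by
          have h1 := hzc ((n : G)⁻¹ * t * n) ((mem_normalizer_iff'' (H := S)).1 hnS t |>.1 ht)
          rw [hw]
          calc t * ((n : G) * z * (n : G)⁻¹) = n * (((n : G)⁻¹ * t * n) * z) * (n : G)⁻¹ := by group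
            _ = n * (z * ((n : G)⁻¹ * t * n)) * (n : G)⁻¹ := by rw [h1]
            _ = (n * z * (n : G)⁻¹) * t := by group
        have hwB : w ∈ B := mem_of_maximal_elementary hSB.elem hSB.maximal
          (mem_centralizer_iff.2 fun b hb => hwc b (hTS' (hBT hb))) hwq
        have hwZ : w ∈ Z := by
          by_contra hwz
          have hw1 : orderOf w = q := orderOf_eq_prime hwq fun e => hwz (e ▸ one_mem _)
          have hsup := line_sup hSB.card hzB hz (zpowers w) (zpowers_le.2 hwB)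
            (by rw [Nat.card_zpowers, hw1]) (fun e => hwz (hZ ▸ e ▸ mem_zpowers w))
          refine hsM (hSB.centralizer_le (le_centralizer_iff.1 ?_ hsS))
          rw [← hsup]
          exact sup_le (zpowers_le.2 (mem_centralizer_iff.2 fun t ht => hwc t ht))
            (zpowers_le.2 (mem_centralizer_iff.2 fun t ht => hzc t ht))
        refine mem_normalizer_iff_cj.2 (eq_of_le_of_card_ge (cj_le_iff.2 fun x hx => ?_)
          (card_cj _ Z).ge)
        rw [hZ] at hx
        obtain ⟨i, rfl⟩ := mem_zpowers_iff.1 hx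
        rw [← MulAut.conj_apply, map_zpow, MulAut.conj_apply, ← hw]
        exact zpow_mem hwZ i
      rw [show g = (o : G) * n from congrArg Subtype.val hgon]
      refine mul_mem (centralizer_le_normalizer _ (Subgroup.centralizer_le ?_ ho')) hnZ
      exact (hZ ▸ zpowers_le.2 hzB : Z ≤ B).trans hBT
    have hZB : Z ≤ B := hZ ▸ zpowers_le.2 hzB
    have hZC : ∀ L' : Subgroup G, L' ≤ A → Nat.card L' = p →
        sigmaCore M ⊓ centralizer (L' : Set G) = ⊥ → L' ≤ centralizer (Z : Set G) :=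
      fun L' hL' hL'c hf => le_centralizer_iff.1
        (hline L' hL' hL'c hf Z hZB hZc hZR ((hL'.trans hAT).trans hZN))
    refine hqC (hZc ▸ card_dvd_of_le (le_centralizer_iff.1 (hA12 ▸ sup_le ?_ ?_)))
    · exact hZC A₁ h₁ c₁ f₁
    · exact hZC A₂ h₂ c₂ f₂

/-- BG 11.7, second half. -/
theorem normal (h : Setup G M p A A₀) (h1395 : StmtS1395.{u})
    (h1448 : StmtS1448.{u}) (h1453 : StmtS1453.{u}) :
    M ≤ normalizer ((sigmaCore M ⊔ A : Subgroup G) : Set G) := by
  haveI hp := Fact.mk h.prime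
  haveI := maximal_solvable h.min h.isMax
  obtain ⟨W, hW⟩ : ∃ W, W = sigmaCore M ⊔ A := ⟨_, rfl⟩
  rw [← hW]
  have hNW : normalizer (sigmaCore M : Set G) ⊓ normalizer (A : Set G) ≤ normalizer (W : Set G) := by
    intro g hg
    rw [hW, mem_normalizer_iff_cj, cj, Subgroup.map_sup]
    exact congrArg₂ _ (mem_normalizer_iff_cj.1 hg.1) (mem_normalizer_iff_cj.1 hg.2)
  obtain ⟨P, hP, hAP⟩ := exists_sylIn_ge (p := p) (IsPGroup.of_card h.card) h.le
  obtain ⟨-, hΩ⟩ := h.sylow h1448 h1453 hP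
  obtain ⟨P₀, hP₀⟩ := exists_sylow_of_sylIn hP
  obtain ⟨K, hK⟩ : ∃ K, K = (pPrimeCore p M).map M.subtype := ⟨_, rfl⟩
  have hKM : K ≤ M := hK ▸ map_subtype_le _
  have hMK : M ≤ normalizer (K : Set G) := by
    rw [hK]
    exact le_normalizer.trans (CfsgLib.Base.normalizer_le_normalizer_map_subtype M _)
  have hKp : (Nat.card K).Coprime p := by
    rw [hK, CfsgLib.Base.card_map_subtype]; exact CfsgLib.Base.pPrimeCore_coprime p M
  have hKW : K ≤ normalizer (W : Set G) := by
    refine le_of_sylIn fun r hr hd => ?_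
    have hrp : r ≠ p := fun e => hr.out.ne_one
      (Nat.eq_one_of_dvd_coprimes hKp hd (e ▸ dvd_rfl))
    obtain ⟨T, hT⟩ := CfsgLib.Coprime.exists_invariant_sylow (p := r) (h.le.trans hMK)
      (by rw [h.card]; exact hKp.symm.pow_left 2)
      (Or.inl (minSimple_solvable h.min (ne_top_of_le_maximal h.isMax h.le)))
    refine ⟨_, sylIn_sylow_map T, ?_⟩
    have hTM : (T : Subgroup K).map K.subtype ≤ M := (map_subtype_le _).trans hKM
    by_cases hrσ : r ∈ sigma M
    · refine le_trans (BG13.le_of_normal_hall (le_normalizer_sigmaCore M)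
        (sigmaCore_hall h.h1403 h.min h.isMax) hTM fun s hs hsd => ?_)
        ((le_sup_left.trans hW.ge).trans le_normalizer)
      rwa [BG13.eq_of_dvd_card_pGroup (T.isPGroup'.map _) hs hsd]
    · refine le_trans (le_inf (hTM.trans (le_normalizer_sigmaCore M))
        ((h.le_centralizer_invariant h1395 h1448 h1453 hrp hrσ (T.isPGroup'.map _) hTM hT ?_).trans
          (centralizer_le_normalizer _))) hNW
      intro hpr
      refine ⟨hTM, T.isPGroup'.map _, fun hd' => ?_⟩
      rw [← relIndex_mul_relIndex _ K M (map_subtype_le _) hKM] at hd'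
      rcases hr.out.dvd_mul.1 hd' with h1 | h1
      · exact (sylIn_sylow_map T).not_dvd h1
      · have hidx : K.relIndex M = (pPrimeCore p M).index := by
          rw [Subgroup.relIndex, hK, Subgroup.subgroupOf,
            comap_map_eq_self_of_injective M.subtype_injective]
        rw [hidx] at h1
        exact absurd ((local_structure_not_beta h.h1403 stmtS1444 h1453 h.min h.isMax h.dvd
          fun hb => h.notSigma (beta_subset_sigma h.h1403 h.min h.isMax hb)).2 r hr.out h1)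
          (not_le.2 hpr)
  intro g hg
  obtain ⟨o, ho, n, hn, hgon⟩ := exists_eq_mul_of_index_coprime
    (pLengthLE_one_iff.1 (pLengthLE_one_of_ne_top h.h1403 stmtS1444 h.min h.isMax.1)) P₀ ⟨g, hg⟩
  rw [show g = (o : G) * n from congrArg Subtype.val hgon]
  have hnP : (n : G) ∈ normalizer (P : Set G) := by
    rw [← hP₀]
    exact mem_normalizer_iff_cj.2 (by
      have h3 := mem_normalizer_iff_cj.1 hn
      conv_rhs => rw [← h3]
      rw [cj, cj, Subgroup.map_map, Subgroup.map_map]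
      rfl)
  refine mul_mem (hKW (hK ▸ mem_map_of_mem _ ho)) (hNW ⟨le_normalizer_sigmaCore M n.2,
    mem_normalizer_iff_cj.2 (eq_of_le_of_card_ge (cj_le_iff.2 fun x hx => ?_) (card_cj _ A).ge)⟩)
  refine (hΩ hAP _ ((mem_normalizer_iff.1 hnP x).1 (hAP hx))).1 ?_
  rw [← MulAut.conj_apply, ← map_pow, h.elem.2 x hx, map_one]

end Setup

end CfsgLib.FT.BG11
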